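import Mathlib
import Cfsg.Agent.Lib.Char.PermChar

/-!
# The permutation character of the special linear group on non-zero vectors
-/

set_option autoImplicit false

namespace CfsgLib.VecPermChar

open Matrix CfsgLib.Char

universe u

/-- Characters summing to a character of small norm are irreducible and distinct. -/
theorem irr_of_sum_norm {G : Type u} [Group G] [Fintype G] {ι : Type*} [Fintype ι] (ψ : ι → G → ℂ)
    (hc : ∀ i, Cfsg.IsCharacter G (ψ i)) (hn : ∀ i, ψ i ≠ 0)
    (hnorm : Cfsg.classInner (∑ i, ψ i) (∑ i, ψ i) = Fintype.card ι) :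
    (∀ i, Cfsg.IsIrrCharacter G (ψ i)) ∧ Function.Injective ψ := by
  classical
  choose m hm hmi using fun i => char_decomp (hc i)
  let M : Cfsg.IrrCharacter G → ℕ := fun χ => ∑ i, m i χ
  have hψ : ∀ χ : Cfsg.IrrCharacter G, Cfsg.classInner (∑ i, ψ i) (χ : G → ℂ) = M χ := fun χ => by
    rw [classInner_sum_left, Nat.cast_sum]
    exact Finset.sum_congr rfl fun i _ => hmi i χ
  have h2 := classInner_eq_sum (f' := ∑ i, ψ i)
    (isClassFunction_sum Finset.univ (f := ψ) fun i _ => isClassFunction_of_isCharacter (hc i))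
  simp only [hnorm, hψ, map_natCast] at h2
  have h3 : ∑ χ, M χ * M χ = Fintype.card ι := by exact_mod_cast h2.symm
  have hone : ∀ i, 1 ≤ ∑ χ, m i χ := by
    intro i
    by_contra hlt
    push Not at hlt
    refine hn i ?_
    rw [hm i]
    refine Finset.sum_eq_zero fun χ _ => ?_
    rw [(Finset.sum_eq_zero_iff.1 (Nat.lt_one_iff.1 hlt)) χ (Finset.mem_univ _)]
    simp
  have hge : Fintype.card ι ≤ ∑ χ, M χ := by
    show _ ≤ ∑ χ, ∑ i, m i χ
    rw [Finset.sum_comm]
    calc Fintype.card ι = ∑ _i : ι, 1 := by simp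
      _ ≤ _ := Finset.sum_le_sum fun i _ => hone i
  have hle : ∑ χ, M χ ≤ ∑ χ, M χ * M χ := Finset.sum_le_sum fun χ _ => Nat.le_mul_self _
  have hM : ∀ χ, M χ ≤ 1 := by
    intro χ
    have := (Finset.sum_eq_sum_iff_of_le fun χ _ => Nat.le_mul_self (M χ)).1 (by omega) χ (Finset.mem_univ _)
    by_contra hgt
    push Not at hgt
    have : M χ < M χ * M χ := lt_mul_of_one_lt_right (by omega) hgt
    omega
  have hsum : ∀ i, ∑ χ, m i χ = 1 := by
    intro i
    refine ((Finset.sum_eq_sum_iff_of_le (f := fun _ => 1) (g := fun i => ∑ χ, m i χ)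
      fun i _ => hone i).1 ?_ i (Finset.mem_univ _)).symm
    have e : (∑ i, ∑ χ, m i χ) = ∑ χ, M χ := Finset.sum_comm
    simp only [Finset.sum_const, Finset.card_univ, smul_eq_mul, mul_one]
    omega
  have hex : ∀ i, ∃ χ : Cfsg.IrrCharacter G, m i χ = 1 ∧ ψ i = χ := by
    intro i
    obtain ⟨χ, -, hχ⟩ := Finset.exists_ne_zero_of_sum_ne_zero (by rw [hsum i]; exact one_ne_zero)
    have h1 : m i χ ≤ 1 := by
      rw [← hsum i]
      exact Finset.single_le_sum (fun _ _ => Nat.zero_le _) (Finset.mem_univ χ)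
    have hz : ∀ χ', χ' ≠ χ → m i χ' = 0 := by
      intro χ' hne
      have := Finset.add_sum_erase Finset.univ (m i) (Finset.mem_univ χ)
      have h4 : m i χ' ≤ ∑ x ∈ Finset.univ.erase χ, m i x :=
        Finset.single_le_sum (fun _ _ => Nat.zero_le _) (Finset.mem_erase.2 ⟨hne, Finset.mem_univ _⟩)
      rw [hsum i] at this
      omega
    refine ⟨χ, by omega, ?_⟩
    rw [hm i, Finset.sum_eq_single χ (fun χ' _ hne => by simp [hz χ' hne]) (by simp),
      show m i χ = 1 by omega]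
    simp
  refine ⟨fun i => ?_, fun i j hij => ?_⟩
  · obtain ⟨χ, -, h⟩ := hex i
    exact h ▸ χ.2
  · by_contra hne
    obtain ⟨χ, hi, hχi⟩ := hex i
    obtain ⟨χ', hj, hχj⟩ := hex j
    obtain rfl : χ = χ' := Subtype.ext (hχi.symm.trans (hij.trans hχj))
    have hsub := Finset.sum_le_sum_of_subset (f := fun k => m k χ) (Finset.subset_univ ({i, j} : Finset ι))
    rw [Finset.sum_pair hne, hi, hj] at hsub
    have := hM χ
    simp only [M] at this
    omega

variable {F : Type u} [Field F] {n : ℕ}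

/-- Non-zero vectors. -/
def NZ (F : Type u) [Field F] (n : ℕ) : Type u := {v : Fin n → F // v ≠ 0}

instance [Finite F] : Finite (NZ F n) := inferInstanceAs (Finite {v : Fin n → F // v ≠ 0})

theorem mulVec_ne_zero (g : SpecialLinearGroup (Fin n) F) {v : Fin n → F} (hv : v ≠ 0) :
    (g : Matrix (Fin n) (Fin n) F) *ᵥ v ≠ 0 := by
  intro e
  refine Matrix.det_ne_zero_of_right_inverse (A := (g : Matrix (Fin n) (Fin n) F))
    (B := ((g⁻¹ : SpecialLinearGroup (Fin n) F) : Matrix _ _ F))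
    (congrArg Subtype.val (mul_inv_cancel g)) ?_
  rw [← Matrix.exists_mulVec_eq_zero_iff]
  exact ⟨v, hv, e⟩

instance : MulAction (SpecialLinearGroup (Fin n) F) (NZ F n) where
  smul g v := ⟨(g : Matrix (Fin n) (Fin n) F) *ᵥ v.1, mulVec_ne_zero g v.2⟩
  one_smul v := Subtype.ext (Matrix.one_mulVec v.1)
  mul_smul g h v := Subtype.ext (Matrix.mulVec_mulVec v.1 g.1 h.1).symm

theorem smul_val (g : SpecialLinearGroup (Fin n) F) (v : NZ F n) :
    (g • v).1 = (g : Matrix (Fin n) (Fin n) F) *ᵥ v.1 := rfl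

theorem exists_sl_pair (hn : 3 ≤ n) {v w : Fin n → F} (h : LinearIndependent F ![v, w]) :
    ∃ g : SpecialLinearGroup (Fin n) F,
      (g : Matrix (Fin n) (Fin n) F) *ᵥ Pi.single ⟨0, by omega⟩ 1 = v ∧
      (g : Matrix (Fin n) (Fin n) F) *ᵥ Pi.single ⟨1, by omega⟩ 1 = w := by
  obtain ⟨f, hf, hf0, hf1⟩ : ∃ f : Fin n → (Fin n → F), LinearIndependent F f ∧
      f ⟨0, by omega⟩ = v ∧ f ⟨1, by omega⟩ = w := by
    suffices ∀ k, 2 ≤ k → k ≤ n → ∃ f : Fin k → (Fin n → F), LinearIndependent F f ∧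
        ∀ i : Fin k, (i.val = 0 → f i = v) ∧ (i.val = 1 → f i = w) by
      obtain ⟨f, hf, hf'⟩ := this n (by omega) le_rfl
      exact ⟨f, hf, (hf' _).1 rfl, (hf' _).2 rfl⟩
    intro k hk
    induction k, hk using Nat.le_induction with
    | base =>
      intro _
      refine ⟨![v, w], h, fun i => ⟨fun e => ?_, fun e => ?_⟩⟩
      · rw [show i = 0 from Fin.ext e]; rfl
      · rw [show i = 1 from Fin.ext e]; rfl
    | succ k hk ih =>
      intro hkn
      obtain ⟨f, hf, hf'⟩ := ih (by omega)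
      obtain ⟨x, hx⟩ := exists_linearIndependent_snoc_of_lt_finrank hf (by simp; omega)
      refine ⟨Fin.snoc f x, hx, fun i => ?_⟩
      by_cases hi : i.val < k
      · rw [show i = Fin.castSucc ⟨i.val, hi⟩ from rfl, Fin.snoc_castSucc]
        exact hf' ⟨i.val, hi⟩
      · exact ⟨fun e => absurd (show i.val < k by omega) hi, fun e => absurd (show i.val < k by omega) hi⟩
  set M : Matrix (Fin n) (Fin n) F := (Matrix.of f)ᵀ with hM
  have hMu : IsUnit M := by
    rw [← Matrix.linearIndependent_cols_iff_isUnit]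
    exact hf
  have hdet : M.det ≠ 0 := ((Matrix.isUnit_iff_isUnit_det M).1 hMu).ne_zero
  set last : Fin n := ⟨n - 1, by omega⟩
  let d : Fin n → F := fun i => if i = last then M.det⁻¹ else 1
  have hdd : (M * diagonal d).det = 1 := by
    rw [det_mul, det_diagonal, Finset.prod_ite_eq', if_pos (Finset.mem_univ _), mul_inv_cancel₀ hdet]
  have hcol : ∀ i : Fin n, i ≠ last → (M * diagonal d) *ᵥ Pi.single i 1 = f i := by
    intro i hi
    funext a
    rw [Matrix.mulVec_single_one]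
    show (M * diagonal d) a i = f i a
    rw [mul_diagonal]
    simp [d, hi, hM]
  refine ⟨⟨_, hdd⟩, ?_, ?_⟩
  · rw [← hf0]; exact hcol _ fun e => by have := congrArg Fin.val e; simp [last] at this; omega
  · rw [← hf1]; exact hcol _ fun e => by have := congrArg Fin.val e; simp [last] at this; omega

theorem exists_partner (hn : 3 ≤ n) {v : Fin n → F} (hv : v ≠ 0) :
    ∃ w : Fin n → F, LinearIndependent F ![v, w] := by
  have h1 : LinearIndependent F ![v] := linearIndependent_unique_iff.2 (by simpa using hv)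
  obtain ⟨w, hw⟩ := exists_linearIndependent_snoc_of_lt_finrank h1 (by simp; omega)
  refine ⟨w, ?_⟩
  have e : Fin.snoc ![v] w = ![v, w] := by funext i; fin_cases i <;> rfl
  rw [e] at hw
  exact hw

theorem exists_pair_map (hn : 3 ≤ n) {v w v' w' : Fin n → F} (h : LinearIndependent F ![v, w])
    (h' : LinearIndependent F ![v', w']) :
    ∃ g : SpecialLinearGroup (Fin n) F, (g : Matrix (Fin n) (Fin n) F) *ᵥ v = v' ∧
      (g : Matrix (Fin n) (Fin n) F) *ᵥ w = w' := by
  obtain ⟨a, ha0, ha1⟩ := exists_sl_pair hn h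
  obtain ⟨b, hb0, hb1⟩ := exists_sl_pair hn h'
  have ha : ((a⁻¹ : SpecialLinearGroup (Fin n) F) : Matrix (Fin n) (Fin n) F) * (a : Matrix _ _ F) = 1 :=
    congrArg Subtype.val (inv_mul_cancel a)
  refine ⟨b * a⁻¹, ?_, ?_⟩
  · show ((b : Matrix (Fin n) (Fin n) F) * ((a⁻¹ : SpecialLinearGroup (Fin n) F) : Matrix _ _ F)) *ᵥ v = v'
    rw [← ha0, mulVec_mulVec, mul_assoc, ha, mul_one, hb0]
  · show ((b : Matrix (Fin n) (Fin n) F) * ((a⁻¹ : SpecialLinearGroup (Fin n) F) : Matrix _ _ F)) *ᵥ w = w'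
    rw [← ha1, mulVec_mulVec, mul_assoc, ha, mul_one, hb1]

theorem isPretransitive (hn : 3 ≤ n) :
    MulAction.IsPretransitive (SpecialLinearGroup (Fin n) F) (NZ F n) := by
  refine ⟨fun x y => ?_⟩
  obtain ⟨a, ha⟩ := exists_partner hn x.2
  obtain ⟨b, hb⟩ := exists_partner hn y.2
  obtain ⟨g, hg, -⟩ := exists_pair_map hn ha hb
  exact ⟨g, Subtype.ext hg⟩

theorem card_pair_orbits [Fintype F] (hn : 3 ≤ n) :
    Nat.card (Quotient (MulAction.orbitRel (SpecialLinearGroup (Fin n) F) (NZ F n × NZ F n))) =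
      Fintype.card F := by
  classical
  let R := MulAction.orbitRel (SpecialLinearGroup (Fin n) F) (NZ F n × NZ F n)
  let key : NZ F n × NZ F n → F := fun p =>
    if h : ∃ c : F, p.2.1 = c • p.1.1 then h.choose else 0
  have hprop : ∀ p : NZ F n × NZ F n, ∀ c : F, p.2.1 = c • p.1.1 → key p = c := fun p c hc => by
    have h : ∃ c : F, p.2.1 = c • p.1.1 := ⟨c, hc⟩
    simp only [key, dif_pos h]
    exact smul_left_injective F p.1.2 (h.choose_spec.symm.trans hc)
  have hindep : ∀ p : NZ F n × NZ F n, key p = 0 → LinearIndependent F ![p.1.1, p.2.1] := by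
    intro p hp
    rw [LinearIndependent.pair_iff' p.1.2]
    intro c hc
    have := hprop p c hc.symm
    rw [hp] at this
    exact p.2.2 (by rw [← hc, ← this, zero_smul])
  have hinv : ∀ p q : NZ F n × NZ F n, R p q → key p = key q := by
    rintro p q ⟨g, rfl⟩
    by_cases hq : ∃ c : F, q.2.1 = c • q.1.1
    · obtain ⟨c, hc⟩ := hq
      rw [hprop q c hc]
      refine hprop _ c ?_
      show (g : Matrix (Fin n) (Fin n) F) *ᵥ q.2.1 = c • ((g : Matrix (Fin n) (Fin n) F) *ᵥ q.1.1)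
      rw [hc, mulVec_smul]
    · have hgq : ¬ ∃ c : F, (g • q).2.1 = c • (g • q).1.1 := by
        rintro ⟨c, hc⟩
        refine hq ⟨c, ?_⟩
        have e := congrArg ((g⁻¹ : SpecialLinearGroup (Fin n) F) : Matrix (Fin n) (Fin n) F).mulVec hc
        rw [mulVec_smul] at e
        change (g⁻¹ • (g • q.2)).1 = c • (g⁻¹ • (g • q.1)).1 at e
        rwa [inv_smul_smul, inv_smul_smul] at e
      simp only [key, dif_neg hq]
      exact dif_neg hgq
  let φ : Quotient R → F := Quotient.lift key hinv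
  rw [← Nat.card_eq_fintype_card]
  refine Nat.card_congr (Equiv.ofBijective φ ⟨?_, ?_⟩)
  · rintro ⟨p⟩ ⟨q⟩ (h : key p = key q)
    refine Quotient.sound ?_
    show p ∈ MulAction.orbit _ q
    by_cases h0 : key q = 0
    · obtain ⟨g, hg1, hg2⟩ := exists_pair_map hn (hindep q h0) (hindep p (h.trans h0))
      exact ⟨g, Prod.ext (Subtype.ext hg1) (Subtype.ext hg2)⟩
    · have hex : ∀ r : NZ F n × NZ F n, key r ≠ 0 → r.2.1 = key r • r.1.1 := fun r hr => by
        by_cases h : ∃ c : F, r.2.1 = c • r.1.1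
        · simp only [key, dif_pos h]; exact h.choose_spec
        · exact absurd (by simp only [key, dif_neg h]) hr
      haveI := isPretransitive (F := F) hn
      obtain ⟨g, hg⟩ := MulAction.exists_smul_eq (SpecialLinearGroup (Fin n) F) q.1 p.1
      refine ⟨g, Prod.ext hg (Subtype.ext ?_)⟩
      show (g : Matrix (Fin n) (Fin n) F) *ᵥ q.2.1 = p.2.1
      rw [hex q h0, hex p (h ▸ h0), mulVec_smul, h, ← smul_val, hg]
  · intro c
    have hne : (Pi.single (⟨0, by omega⟩ : Fin n) 1 : Fin n → F) ≠ 0 := by simp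
    let x : NZ F n := ⟨_, hne⟩
    by_cases hc : c = 0
    · subst hc
      obtain ⟨w, hw⟩ := exists_partner hn x.2
      have hw0 : w ≠ 0 := hw.ne_zero 1
      refine ⟨Quotient.mk R (x, ⟨w, hw0⟩), ?_⟩
      show key _ = 0
      rw [show key (x, ⟨w, hw0⟩) = _ from dif_neg ?_]
      rintro ⟨c, hc'⟩
      exact (LinearIndependent.pair_iff' x.2).1 hw c hc'.symm
    · exact ⟨Quotient.mk R (x, ⟨c • x.1, smul_ne_zero hc x.2⟩), hprop _ c rfl⟩

theorem sum_monoidHom [Fintype F] [DecidableEq F] [Fintype (Fˣ →* ℂˣ)] (u : Fˣ) :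
    ∑ θ : Fˣ →* ℂˣ, ((θ u : ℂˣ) : ℂ) = if u = 1 then (Fintype.card (Fˣ →* ℂˣ) : ℂ) else 0 := by
  split_ifs with h
  · simp [h]
  · obtain ⟨θ₀, hθ₀⟩ := CommGroup.exists_apply_ne_one_of_hasEnoughRootsOfUnity Fˣ ℂ h
    have e := Fintype.sum_equiv (Equiv.mulLeft θ₀) (fun θ => (((θ₀ * θ) u : ℂˣ) : ℂ))
      (fun θ : Fˣ →* ℂˣ => ((θ u : ℂˣ) : ℂ)) (fun _ => rfl)
    simp only [MonoidHom.mul_apply, Units.val_mul, ← Finset.mul_sum] at e
    have hne : (θ₀ u : ℂ) - 1 ≠ 0 := sub_ne_zero.2 fun h1 => hθ₀ (Units.ext h1)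
    exact (mul_eq_zero.1 (by rw [sub_mul, one_mul, e, sub_self] :
      ((θ₀ u : ℂ) - 1) * ∑ θ : Fˣ →* ℂˣ, ((θ u : ℂˣ) : ℂ) = 0)).resolve_left hne

theorem exists_decomp [Fintype F] [DecidableEq F] (hn : 3 ≤ n) :
    ∃ χ : Fin (Fintype.card F - 1) → (SpecialLinearGroup (Fin n) F → ℂ),
      (∀ i, Cfsg.IsIrrCharacter (SpecialLinearGroup (Fin n) F) (χ i)) ∧ Function.Injective χ ∧
      ∀ g : SpecialLinearGroup (Fin n) F,
        (Nat.card {v : Fin n → F // v ≠ 0 ∧ (g : Matrix (Fin n) (Fin n) F) *ᵥ v = v} : ℂ) = 1 + ∑ i, χ i g := by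
  classical
  haveI := isPretransitive (F := F) hn
  haveI : Fintype (Fˣ →* ℂˣ) := Fintype.ofFinite _
  have hcard : Fintype.card (Fˣ →* ℂˣ) = Fintype.card F - 1 := by
    rw [← Nat.card_eq_fintype_card, CommGroup.card_monoidHom_of_hasEnoughRootsOfUnity,
      Nat.card_eq_fintype_card, Fintype.card_units]
  set x : NZ F n := ⟨Pi.single (⟨0, by omega⟩ : Fin n) 1, by simp⟩ with hx
  -- the stabiliser of the line through `x`
  let P : Subgroup (SpecialLinearGroup (Fin n) F) :=
    { carrier := {g | ∃ c : Fˣ, (g : Matrix (Fin n) (Fin n) F) *ᵥ x.1 = (c : F) • x.1}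
      one_mem' := ⟨1, by simp⟩
      mul_mem' := by
        rintro a b ⟨c, hc⟩ ⟨d, hd⟩
        refine ⟨d * c, ?_⟩
        show ((a : Matrix (Fin n) (Fin n) F) * (b : Matrix (Fin n) (Fin n) F)) *ᵥ x.1 = _
        rw [← mulVec_mulVec, hd, mulVec_smul, hc, smul_smul, Units.val_mul]
      inv_mem' := by
        rintro a ⟨c, hc⟩
        refine ⟨c⁻¹, ?_⟩
        have e := congrArg ((a⁻¹ : SpecialLinearGroup (Fin n) F) : Matrix (Fin n) (Fin n) F).mulVec hc
        have e1 : ((a⁻¹ : SpecialLinearGroup (Fin n) F) : Matrix (Fin n) (Fin n) F) * (a : Matrix (Fin n) (Fin n) F) = 1 :=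
          congrArg Subtype.val (inv_mul_cancel a)
        rw [mulVec_smul, mulVec_mulVec, e1, one_mulVec] at e
        show _ = ((c⁻¹ : Fˣ) : F) • x.1
        nth_rewrite 2 [e]
        rw [smul_smul, Units.inv_mul, one_smul] }
  have hμ : ∀ g : P, ∃ c : Fˣ, ((g : SpecialLinearGroup (Fin n) F) : Matrix (Fin n) (Fin n) F) *ᵥ x.1 =
      (c : F) • x.1 := fun g => g.2
  choose μ₀ hμ₀ using hμ
  have hμu : ∀ (g : P) (c : Fˣ), ((g : SpecialLinearGroup (Fin n) F) : Matrix (Fin n) (Fin n) F) *ᵥ x.1 =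
      (c : F) • x.1 → μ₀ g = c := fun g c h =>
    Units.ext (smul_left_injective F x.2 ((hμ₀ g).symm.trans h))
  let μ : P →* Fˣ := MonoidHom.mk' μ₀ fun a b => hμu _ _ (by
    show (((a : SpecialLinearGroup (Fin n) F) : Matrix (Fin n) (Fin n) F) * ((b : SpecialLinearGroup (Fin n) F) : Matrix (Fin n) (Fin n) F)) *ᵥ x.1 = _
    rw [← mulVec_mulVec, hμ₀ b, mulVec_smul, hμ₀ a,
      smul_smul, mul_comm (μ₀ a) (μ₀ b), Units.val_mul])
  set H := MulAction.stabilizer (SpecialLinearGroup (Fin n) F) x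
  have hmemH : ∀ g, g ∈ H ↔ ∃ h : g ∈ P, μ ⟨g, h⟩ = 1 := fun g => by
    constructor
    · intro hg
      have e : (g : Matrix (Fin n) (Fin n) F) *ᵥ x.1 = ((1 : Fˣ) : F) • x.1 := by
        rw [Units.val_one, one_smul]; exact congrArg Subtype.val hg
      exact ⟨⟨1, e⟩, hμu _ _ e⟩
    · rintro ⟨h, h1⟩
      refine Subtype.ext ?_
      show (g : Matrix (Fin n) (Fin n) F) *ᵥ x.1 = x.1
      rw [hμ₀ ⟨g, h⟩, show μ₀ ⟨g, h⟩ = 1 from h1, Units.val_one, one_smul]
  have hsurj : Function.Surjective μ := fun c => by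
    obtain ⟨g, hg⟩ := MulAction.exists_smul_eq (SpecialLinearGroup (Fin n) F) x
      (⟨(c : F) • x.1, smul_ne_zero c.ne_zero x.2⟩ : NZ F n)
    have e : (g : Matrix (Fin n) (Fin n) F) *ᵥ x.1 = (c : F) • x.1 := congrArg Subtype.val hg
    exact ⟨⟨g, ⟨c, e⟩⟩, hμu _ _ e⟩
  have hcardP : Nat.card P = (Fintype.card F - 1) * Nat.card H := by
    rw [← Subgroup.card_eq_card_quotient_mul_card_subgroup μ.ker |>.symm,
      Nat.card_congr (QuotientGroup.quotientKerEquivOfSurjective μ hsurj).toEquiv,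
      Nat.card_eq_fintype_card (α := Fˣ), Fintype.card_units]
    congr 1
    exact Nat.card_congr
      { toFun := fun g => ⟨g.1.1, (hmemH _).2 ⟨g.1.2, g.2⟩⟩
        invFun := fun g => ⟨⟨g.1, ((hmemH _).1 g.2).1⟩, ((hmemH _).1 g.2).2⟩
        left_inv := fun _ => rfl
        right_inv := fun _ => rfl }
  haveI : Fintype P := Fintype.ofFinite _
  let ψ : (Fˣ →* ℂˣ) → (SpecialLinearGroup (Fin n) F → ℂ) := fun θ =>
    Cfsg.indFun P (fun p => ((θ (μ p) : ℂˣ) : ℂ))
  have hψc : ∀ θ, Cfsg.IsCharacter _ (ψ θ) := fun θ => isCharacter_indFun P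
    (isCharacter_of_isIrr (isIrrCharacter_hom ((Units.coeHom ℂ).comp (θ.comp μ))))
  set π : SpecialLinearGroup (Fin n) F → ℂ := fun g =>
    (Nat.card (MulAction.fixedBy (NZ F n) g) : ℂ) with hπ
  have hsum : ∑ θ, ψ θ = π := by
    have h1 : ∑ θ, ψ θ = Cfsg.indFun P (∑ θ : Fˣ →* ℂˣ, fun p => ((θ (μ p) : ℂˣ) : ℂ)) :=
      (indFun_sum P Finset.univ _).symm
    rw [h1, hπ, permChar_eq_indFun x]
    funext g
    rw [indFun_apply, indFun_apply]
    have e : ∀ y : SpecialLinearGroup (Fin n) F,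
        Cfsg.extendByZero P (∑ θ : Fˣ →* ℂˣ, fun p => ((θ (μ p) : ℂˣ) : ℂ)) y =
          ((Fintype.card F - 1 : ℕ) : ℂ) * Cfsg.extendByZero H (fun _ => (1 : ℂ)) y := by
      intro y
      by_cases hy : y ∈ P
      · rw [extendByZero_of_mem _ hy, Finset.sum_apply, sum_monoidHom, hcard]
        by_cases h1 : μ ⟨y, hy⟩ = 1
        · rw [if_pos h1, extendByZero_of_mem _ ((hmemH y).2 ⟨hy, h1⟩), mul_one]
        · rw [if_neg h1, extendByZero_of_notMem _ fun hH => h1 ((hmemH y).1 hH).2, mul_zero]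
      · rw [extendByZero_of_notMem _ hy, extendByZero_of_notMem _ fun hH => hy ((hmemH y).1 hH).1, mul_zero]
    simp only [e, ← Finset.mul_sum, hcardP, Nat.cast_mul]
    have hq : ((Fintype.card F - 1 : ℕ) : ℂ) ≠ 0 := by
      have := Fintype.one_lt_card (α := F)
      exact_mod_cast (by omega : Fintype.card F - 1 ≠ 0)
    rw [mul_inv, ← mul_assoc, mul_comm ((Fintype.card F - 1 : ℕ) : ℂ)⁻¹ _, mul_assoc _ _ ((Fintype.card F - 1 : ℕ) : ℂ),
      inv_mul_cancel₀ hq, mul_one]
  have hψ1 : ∀ θ, ψ θ 1 = (P.index : ℂ) := fun θ => by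
    show Cfsg.indFun P _ 1 = _
    rw [indFun_one, map_one, map_one, Units.val_one, mul_one]
  have hidx : 1 < P.index := by
    refine Subgroup.one_lt_index_of_ne_top fun htop => ?_
    obtain ⟨w, hw⟩ := exists_partner hn x.2
    obtain ⟨g, hg⟩ := MulAction.exists_smul_eq (SpecialLinearGroup (Fin n) F) x (⟨w, hw.ne_zero 1⟩ : NZ F n)
    obtain ⟨c, hc⟩ := (htop ▸ Subgroup.mem_top g : g ∈ P)
    exact (LinearIndependent.pair_iff' x.2).1 hw (c : F) (hc.symm.trans (congrArg Subtype.val hg))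
  -- split off the principal character
  let ρ : SpecialLinearGroup (Fin n) F → ℂ := ψ 1 - 1
  have h11 : Cfsg.classInner (ψ 1) (fun _ => 1) = 1 := by
    have e : ψ 1 = Cfsg.indFun P (fun _ => 1) := by
      simp only [ψ, MonoidHom.one_apply, Units.val_one]
    rw [e, classInner_indFun_one_one]
  have hρc : Cfsg.IsCharacter _ ρ := by
    have hcf : Cfsg.IsClassFunction _ ρ :=
      isClassFunction_sub (isClassFunction_of_isCharacter (hψc 1)) (isClassFunction_const 1)
    refine isCharacter_of_classInner_nat hcf fun χ hχ => ?_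
    obtain ⟨m, hm⟩ := classInner_char_nat (hψc 1) (isCharacter_of_isIrr hχ)
    show ∃ k : ℕ, Cfsg.classInner (ψ 1 - fun _ => 1) χ = k
    rw [classInner_sub_left, hm]
    by_cases h1 : χ = fun _ => 1
    · subst h1
      have : m = 1 := by exact_mod_cast hm.symm.trans h11
      exact ⟨0, by rw [this, classInner_irr_self isIrrCharacter_one]; simp⟩
    · exact ⟨m, by rw [classInner_irr_ne isIrrCharacter_one hχ (Ne.symm h1), sub_zero]⟩
  have hρ0 : ρ ≠ 0 := fun e => by
    have := congrFun e 1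
    simp only [ρ, Pi.sub_apply, hψ1, Pi.one_apply, Pi.zero_apply, sub_eq_zero] at this
    have : P.index = 1 := by exact_mod_cast this
    omega
  let Ψ : Option (Fˣ →* ℂˣ) → (SpecialLinearGroup (Fin n) F → ℂ) := fun o =>
    match o with
    | none => fun _ => 1
    | some θ => if θ = 1 then ρ else ψ θ
  have hΨsum : ∑ o, Ψ o = π := by
    rw [Fintype.sum_option, ← hsum, ← Finset.add_sum_erase Finset.univ ψ (Finset.mem_univ 1),
      ← Finset.add_sum_erase Finset.univ (fun θ => Ψ (some θ)) (Finset.mem_univ 1)]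
    rw [show Ψ (some 1) = ρ by simp [Ψ], show Ψ none = fun _ => 1 from rfl,
      Finset.sum_congr rfl (g := ψ) fun θ hθ => by simp [Ψ, (Finset.mem_erase.1 hθ).1], ← add_assoc]
    congr 1
    funext g
    simp [ρ]
  have hq1 : Fintype.card (Option (Fˣ →* ℂˣ)) = Fintype.card F := by
    rw [Fintype.card_option, hcard]
    have := Fintype.one_lt_card (α := F)
    omega
  obtain ⟨hirr, hinj⟩ := irr_of_sum_norm Ψ
    (fun o => by
      rcases o with _ | θ
      · exact isCharacter_one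
      · simp only [Ψ]
        split_ifs
        · exact hρc
        · exact hψc θ)
    (fun o => by
      rcases o with _ | θ
      · exact fun e => one_ne_zero (congrFun e 1)
      · simp only [Ψ]
        split_ifs
        · exact hρ0
        · intro e
          have := congrFun e 1
          rw [hψ1] at this
          simp only [Pi.zero_apply, Nat.cast_eq_zero] at this
          omega)
    (by rw [hΨsum, hπ, classInner_permChar, card_pair_orbits hn, hq1])
  let eFin : Fin (Fintype.card F - 1) ≃ (Fˣ →* ℂˣ) :=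
    (finCongr hcard.symm).trans (Fintype.equivFin _).symm
  refine ⟨fun i => Ψ (some (eFin i)), fun i => hirr (some (eFin i)),
    fun i j h => eFin.injective (Option.some_injective _ (hinj h)), fun g => ?_⟩
  have hg := congrFun hΨsum g
  rw [Fintype.sum_option, Pi.add_apply, Finset.sum_apply] at hg
  rw [← Equiv.sum_comp eFin] at hg
  rw [show Ψ none g = 1 from rfl] at hg
  rw [hg, hπ]
  refine congrArg Nat.cast (Nat.card_congr (?_ : {v : Fin n → F // v ≠ 0 ∧ (g : Matrix (Fin n) (Fin n) F) *ᵥ v = v} ≃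
    MulAction.fixedBy (NZ F n) g))
  exact
    { toFun := fun v => ⟨⟨v.1, v.2.1⟩, Subtype.ext v.2.2⟩
      invFun := fun v => ⟨v.1.1, v.1.2, congrArg Subtype.val v.2⟩
      left_inv := fun _ => rfl
      right_inv := fun _ => rfl }

end CfsgLib.VecPermChar
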